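import Groth.Agent.SectRegPS.Basic
import Groth.Agent.S8719
import Groth.Agent.ArtKit.PSRing
import Groth.Agent.EGA41FS.LiftUnique
import Groth.Prelude.Def_QuadSing

/-!
# Non-degenerate quadratic singularities of hypersurfaces and the Jacobian ideal
-/

set_option autoImplicit false
set_option linter.style.haveILetI false
set_option maxHeartbeats 800000
universe u

open IsLocalRing

noncomputable section

namespace Groth.Agent.QuadSingJac

variable {k : Type u} [Field k] {N : ℕ}

local notation "PS" => MvPowerSeries (Fin N) k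

theorem mem_max_iff (f : PS) : f ∈ maximalIdeal PS ↔ MvPowerSeries.constantCoeff f = 0 := by
  rw [mem_maximalIdeal, mem_nonunits_iff, MvPowerSeries.isUnit_iff_constantCoeff, isUnit_iff_ne_zero, not_not]

theorem mem_pow_iff (f : PS) (n : ℕ) :
    f ∈ maximalIdeal PS ^ n ↔ ∀ d : Fin N →₀ ℕ, d.degree < n → MvPowerSeries.coeff d f = 0 := by
  constructor
  · intro h d hd
    have := ArtKit.pow_le_coeffFilt n h d
    rwa [IsLocalRing.maximalIdeal_eq_bot, Submodule.bot_pow (by omega), Submodule.mem_bot] at this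
  · intro h
    refine ArtKit.coeffFilt_le_pow n fun d => ?_
    rcases Nat.lt_or_ge d.degree n with hd | hd
    · rw [h d hd]; exact zero_mem _
    · rw [Nat.sub_eq_zero_of_le hd, pow_zero, Ideal.one_eq_top]; trivial

theorem sub_trunc_mem (f : PS) (n : ℕ) :
    f - (MvPowerSeries.truncTotal n f : MvPolynomial (Fin N) k) ∈ maximalIdeal PS ^ n := by
  rw [mem_pow_iff]
  intro d hd
  rw [map_sub, MvPolynomial.coeff_coe, MvPowerSeries.coeff_truncTotal _ hd, sub_self]

theorem pderiv_mem_pow (i : Fin N) : ∀ (n : ℕ) (f : PS), f ∈ maximalIdeal PS ^ (n + 1) →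
    MvPowerSeries.pderiv k i f ∈ maximalIdeal PS ^ n := by
  intro n f hf
  rw [mem_pow_iff] at hf ⊢
  intro d hd
  rw [MvPowerSeries.coeff_pderiv, hf _ (by rw [map_add, Finsupp.degree_single]; omega), zero_mul]

/-- The chain rule for polynomials. -/
theorem derivation_aeval {S : Type u} [CommRing S] [Algebra k S] {σ : Type} [Fintype σ] (D : Derivation k S S)
    (y : σ → S) (p : MvPolynomial σ k) :
    D (MvPolynomial.aeval y p) = ∑ i, MvPolynomial.aeval y (MvPolynomial.pderiv i p) * D (y i) := by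
  classical
  induction p using MvPolynomial.induction_on with
  | C a => simp
  | add p q hp hq => simp [hp, hq, add_mul, Finset.sum_add_distrib]
  | mul_X p j hp =>
    rw [map_mul, MvPolynomial.aeval_X, Derivation.leibniz, hp]
    simp only [smul_eq_mul, Derivation.leibniz, MvPolynomial.pderiv_X, map_add, map_mul, MvPolynomial.aeval_X,
      add_mul, Finset.sum_add_distrib, Finset.mul_sum]
    have h : ∀ x, (MvPolynomial.aeval y) ((Pi.single x (1 : MvPolynomial σ k) : σ → MvPolynomial σ k) j) =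
        if x = j then (1 : S) else 0 := fun x => by
      rw [Pi.single_apply]
      by_cases h : x = j
      · rw [if_pos h.symm, if_pos h, map_one]
      · rw [if_neg (Ne.symm h), if_neg h, map_zero]
    simp only [h, mul_ite, mul_one, mul_zero, ite_mul, zero_mul, Finset.sum_ite_eq', Finset.mem_univ, if_true]
    congr 1
    exact Finset.sum_congr rfl fun x _ => by ring

theorem coe_eq_aeval (p : MvPolynomial (Fin N) k) :
    (p : PS) = MvPolynomial.aeval (fun i => (MvPowerSeries.X i : PS)) p := by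
  have h : (MvPolynomial.coeToMvPowerSeries.algHom k : MvPolynomial (Fin N) k →ₐ[k] PS) =
      MvPolynomial.aeval fun i => (MvPowerSeries.X i : PS) :=
    MvPolynomial.algHom_ext fun i => by simp
  rw [← h]
  simp

/-- The chain rule for power series, to first order. -/
theorem pderiv_algHom_sub_mem {M : ℕ} (θ : MvPowerSeries (Fin M) k →ₐ[k] PS)
    (hθ : ∀ i, θ (MvPowerSeries.X i) ∈ maximalIdeal PS) (f : MvPowerSeries (Fin M) k) (j : Fin N) :
    MvPowerSeries.pderiv k j (θ f) -
      ∑ i, θ (MvPowerSeries.pderiv k i f) * MvPowerSeries.pderiv k j (θ (MvPowerSeries.X i)) ∈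
        maximalIdeal PS ^ 2 := by
  have hmap : ∀ n, (maximalIdeal (MvPowerSeries (Fin M) k) ^ n).map θ ≤ maximalIdeal PS ^ n := fun n => by
    rw [Ideal.map_pow]
    refine Ideal.pow_right_mono ?_ n
    rw [← ArtPow.span_X_eq_maximalIdeal, Ideal.map_span, Ideal.span_le]
    rintro _ ⟨_, ⟨i, rfl⟩, rfl⟩
    exact hθ i
  set p := MvPowerSeries.truncTotal 3 f
  have hr := sub_trunc_mem f 3
  set r := f - (p : MvPowerSeries (Fin M) k) with hrdef
  have hf : f = (p : MvPowerSeries (Fin M) k) + r := by rw [hrdef]; ring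
  have hp : MvPowerSeries.pderiv k j (θ (p : MvPowerSeries (Fin M) k)) =
      ∑ i, θ (MvPowerSeries.pderiv k i (p : MvPowerSeries (Fin M) k)) *
        MvPowerSeries.pderiv k j (θ (MvPowerSeries.X i)) := by
    have hθp : ∀ q : MvPolynomial (Fin M) k, θ (q : MvPowerSeries (Fin M) k) =
        MvPolynomial.aeval (fun i => θ (MvPowerSeries.X i)) q := fun q => by
      rw [coe_eq_aeval, MvPolynomial.comp_aeval_apply]
    simp only [MvPowerSeries.pderiv_coe, hθp]
    exact derivation_aeval _ _ p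
  rw [hf, map_add, map_add, hp]
  simp only [map_add, add_mul, Finset.sum_add_distrib, add_sub_add_left_eq_sub]
  refine Ideal.sub_mem _ (pderiv_mem_pow j 2 _ (hmap 3 (Ideal.mem_map_of_mem θ hr))) (Ideal.sum_mem _ fun i _ => ?_)
  exact Ideal.mul_mem_right _ _ (hmap 2 (Ideal.mem_map_of_mem θ (pderiv_mem_pow i 2 r hr)))

/-- The partials span the maximal ideal to first order. -/
def JacFull (g : PS) : Prop :=
  maximalIdeal PS ≤ Ideal.span (Set.range fun i => MvPowerSeries.pderiv k i g) ⊔ maximalIdeal PS ^ 2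

theorem mem_sq_of_noLow {g : PS} (h : VanCyc.NoLowTerms g) : g ∈ maximalIdeal PS ^ 2 := by
  classical
  rw [mem_pow_iff]
  intro d hd
  by_cases h0 : d = 0
  · rw [h0, MvPowerSeries.coeff_zero_eq_constantCoeff_apply]; exact h.1
  · obtain ⟨i, hi⟩ := (Finsupp.ne_iff).1 h0
    have hle : d i ≤ d.degree := Finsupp.le_degree i d
    have hd1 : d = Finsupp.single i 1 := by
      rw [Finsupp.coe_zero, Pi.zero_apply] at hi
      refine Finsupp.ext fun j => ?_
      by_cases hj : j = i
      · subst hj; rw [Finsupp.single_eq_same]; omega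
      · rw [Finsupp.single_eq_of_ne hj]
        by_contra hne
        have h2 : d i + d j ≤ d.degree := by
          rw [Finsupp.degree_eq_sum, ← Finset.sum_pair (f := fun l => d l) (Ne.symm hj)]
          exact Finset.sum_le_sum_of_subset (Finset.subset_univ _)
        omega
    rw [hd1]; exact h.2 i

theorem noLow_of_mem_sq {g : PS} (h : g ∈ maximalIdeal PS ^ 2) : VanCyc.NoLowTerms g := by
  rw [mem_pow_iff] at h
  refine ⟨?_, fun i => h _ (by rw [Finsupp.degree_single]; omega)⟩
  rw [← MvPowerSeries.coeff_zero_eq_constantCoeff_apply]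
  exact h 0 (by simp)

theorem coeff_single_mul (a b : PS) (hb : MvPowerSeries.constantCoeff b = 0) (j : Fin N) :
    MvPowerSeries.coeff (Finsupp.single j 1) (a * b) =
      MvPowerSeries.constantCoeff a * MvPowerSeries.coeff (Finsupp.single j 1) b := by
  classical
  rw [MvPowerSeries.coeff_mul, Finsupp.antidiagonal_single, Finset.sum_map]
  simp [Finset.Nat.antidiagonal_succ, hb]

theorem coeff_single_pderiv (g : PS) (l j : Fin N) :
    MvPowerSeries.coeff (Finsupp.single j 1) (MvPowerSeries.pderiv k l g) =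
      VanCyc.polarMatrix (VanCyc.quadPart g) l j := by
  classical
  rw [MvPowerSeries.coeff_pderiv, VanCyc.polarMatrix]
  rcases eq_or_ne l j with rfl | hne
  · simp [VanCyc.quadPart, ← Finsupp.single_add]; ring
  · rcases lt_or_gt_of_ne hne with hlt | hgt
    · simp [VanCyc.quadPart, hne, hlt, Finsupp.single_eq_of_ne hne, add_comm]
    · simp [VanCyc.quadPart, hne, hne.symm, hgt, not_lt.2 hgt.le, Finsupp.single_eq_of_ne hne, add_comm]

theorem nondeg_iff {n : ℕ} (g : MvPowerSeries (Fin (n + 1)) k) (hg : g ∈ maximalIdeal _ ^ 2) :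
    VanCyc.NondegQuadSeries g ↔ JacFull g := by
  classical
  refine ⟨fun h => (S8719.result k n g h).ge.trans le_sup_left, fun h => ⟨noLow_of_mem_sq hg, ?_⟩⟩
  have hD : ∀ l, MvPowerSeries.constantCoeff (MvPowerSeries.pderiv k l g) = 0 := fun l => by
    have := pderiv_mem_pow l 1 g hg
    rwa [pow_one, mem_max_iff] at this
  have hx : ∀ i, ∃ a : Fin (n + 1) → k, ∀ j, (if i = j then (1 : k) else 0) =
      ∑ l, a l * VanCyc.polarMatrix (VanCyc.quadPart g) l j := fun i => by
    obtain ⟨s, hs, t, ht, hst⟩ := Submodule.mem_sup.1 (h (show MvPowerSeries.X i ∈ maximalIdeal _ by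
      rw [mem_max_iff, MvPowerSeries.constantCoeff_X]))
    obtain ⟨c, hc⟩ := (Ideal.mem_span_range_iff_exists_fun).1 hs
    refine ⟨fun l => MvPowerSeries.constantCoeff (c l), fun j => ?_⟩
    have h2 : MvPowerSeries.coeff (Finsupp.single j 1) t = 0 :=
      (mem_pow_iff t 2).1 ht _ (by rw [Finsupp.degree_single]; omega)
    have h1 := congrArg (MvPowerSeries.coeff (Finsupp.single j 1)) hst
    rw [map_add, h2, add_zero, ← hc, map_sum, MvPowerSeries.coeff_X] at h1
    simp only [coeff_single_mul _ _ (hD _), coeff_single_pderiv] at h1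
    rw [h1]
    simp [Finsupp.single_left_inj one_ne_zero, eq_comm]
  choose a ha using hx
  refine Matrix.isUnit_det_of_left_inverse (B := Matrix.of a) ?_
  ext i j
  rw [Matrix.mul_apply, Matrix.one_apply, ha i j]
  rfl

/-- The condition depends only on the quotient. -/
theorem jacFull_of_algEquiv (g g' : PS) (hg : g ∈ maximalIdeal PS ^ 2) (hg' : g' ∈ maximalIdeal PS ^ 2)
    (e : (PS ⧸ Ideal.span {g'}) ≃ₐ[k] (PS ⧸ Ideal.span {g})) (h : JacFull g') : JacFull g := by
  classical
  set m := maximalIdeal PS with hm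
  let q : PS →ₐ[k] PS ⧸ Ideal.span {g} := Ideal.Quotient.mkₐ k _
  let q' : PS →ₐ[k] PS ⧸ Ideal.span {g'} := Ideal.Quotient.mkₐ k _
  choose y hy using fun i => Ideal.Quotient.mkₐ_surjective k (Ideal.span {g}) (e (q' (MvPowerSeries.X i)))
  have hgm : Ideal.span {g} ≤ m := (Ideal.span_singleton_le_iff_mem _).2 (Ideal.pow_le_self two_ne_zero hg)
  have hgm' : Ideal.span {g'} ≤ m := (Ideal.span_singleton_le_iff_mem _).2 (Ideal.pow_le_self two_ne_zero hg')
  have hq : ∀ x, IsUnit (q x) → IsUnit x := fun x hx => by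
    by_contra hn
    obtain ⟨z, hz⟩ := Ideal.Quotient.mkₐ_surjective k (Ideal.span {g}) ↑hx.unit⁻¹
    have h1 : q (x * z - 1) = 0 := by
      rw [map_sub, map_mul, hz, map_one, IsUnit.mul_val_inv, sub_self]
    have h2 : x * z - 1 ∈ m := hgm (Ideal.Quotient.eq_zero_iff_mem.1 h1)
    have h3 := Ideal.sub_mem _ (Ideal.mul_mem_right z _ (show x ∈ m from hn)) h2
    rw [sub_sub_cancel] at h3
    exact (maximalIdeal.isMaximal PS).ne_top ((Ideal.eq_top_iff_one _).2 h3)
  have hym : ∀ i, y i ∈ m := fun i => by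
    intro hu
    have h1 : IsUnit (q' (MvPowerSeries.X i)) := by
      have := hu.map q
      rw [hy] at this
      simpa using this.map e.symm
    obtain ⟨z, hz⟩ := Ideal.Quotient.mkₐ_surjective k (Ideal.span {g'}) ↑h1.unit⁻¹
    have h2 : q' (MvPowerSeries.X i * z - 1) = 0 := by
      rw [map_sub, map_mul, hz, map_one, IsUnit.mul_val_inv, sub_self]
    have h3 : MvPowerSeries.X i * z - 1 ∈ m := hgm' (Ideal.Quotient.eq_zero_iff_mem.1 h2)
    rw [hm, mem_max_iff, map_sub, map_mul, MvPowerSeries.constantCoeff_X, zero_mul, map_one, zero_sub,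
      neg_eq_zero] at h3
    exact one_ne_zero h3
  haveI : IsAdicComplete m PS := ArtKit.isAdicComplete_mvPowerSeries
  obtain ⟨θ, hθ⟩ := ArtKit.exists_evalAdic (R := k) m y hym
  haveI : Nontrivial (PS ⧸ Ideal.span {g}) :=
    Ideal.Quotient.nontrivial_iff.2 (ne_top_of_le_ne_top (maximalIdeal.isMaximal PS).ne_top hgm)
  haveI : IsLocalRing (PS ⧸ Ideal.span {g}) :=
    IsLocalRing.of_surjective' (Ideal.Quotient.mk _) Ideal.Quotient.mk_surjective
  haveI : IsHausdorff (maximalIdeal (PS ⧸ Ideal.span {g})) (PS ⧸ Ideal.span {g}) :=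
    IsHausdorff.of_isLocalRing _ _ (maximalIdeal.isMaximal _).ne_top
  have hqm : ∀ x, x ∈ m → q x ∈ maximalIdeal (PS ⧸ Ideal.span {g}) := fun x hx hu => hx (hq x hu)
  have hcomp : q.comp θ = e.toAlgHom.comp q' := ArtKit.algHom_ext_adic (maximalIdeal (PS ⧸ Ideal.span {g}))
    (fun i => (congrArg q (hθ i)).trans (hy i))
    (fun i => hqm _ (show θ (MvPowerSeries.X i) ∈ m by rw [hθ]; exact hym i))
  have hθm : ∀ i, θ (MvPowerSeries.X i) ∈ m := fun i => by rw [hθ]; exact hym i
  have hmap : ∀ n, ∀ x ∈ m ^ n, θ x ∈ m ^ n := fun n x hx => by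
    have h1 : (m ^ n).map θ ≤ m ^ n := by
      rw [Ideal.map_pow]
      refine Ideal.pow_right_mono ?_ n
      rw [hm, ← ArtPow.span_X_eq_maximalIdeal, Ideal.map_span, Ideal.span_le]
      rintro _ ⟨_, ⟨i, rfl⟩, rfl⟩
      rw [ArtPow.span_X_eq_maximalIdeal]
      exact hθm i
    exact h1 (Ideal.mem_map_of_mem θ hx)
  -- the variables are images, up to the relation
  have hX : ∀ i, ∃ hh ∈ m, ∃ w, MvPowerSeries.X i = θ hh + w * g := fun i => by
    obtain ⟨hh, hh'⟩ := Ideal.Quotient.mkₐ_surjective k (Ideal.span {g'}) (e.symm (q (MvPowerSeries.X i)))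
    have h1 : q (θ hh) = q (MvPowerSeries.X i) := by
      rw [← AlgHom.comp_apply q θ, hcomp, AlgHom.comp_apply]
      show e (q' hh) = _
      rw [hh', AlgEquiv.apply_symm_apply]
    obtain ⟨w, hw⟩ := Ideal.mem_span_singleton'.1 (Ideal.Quotient.eq.1 h1.symm)
    refine ⟨hh, ?_, w, by rw [hw]; ring⟩
    intro hu
    refine (show MvPowerSeries.X i ∈ m by rw [hm, mem_max_iff, MvPowerSeries.constantCoeff_X]) (hq _ ?_)
    rw [← h1]
    exact (hu.map θ).map q
  choose hh hhm w hw using hX
  let L : Matrix (Fin N) (Fin N) PS := Matrix.of fun i j => MvPowerSeries.pderiv k j (θ (MvPowerSeries.X i))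
  let G : Matrix (Fin N) (Fin N) PS := Matrix.of fun i l => θ (MvPowerSeries.pderiv k l (hh i))
  have hGL : ∀ i j, (G * L) i j - (1 : Matrix (Fin N) (Fin N) PS) i j ∈ m := fun i j => by
    have h1 := Ideal.pow_le_self two_ne_zero (pderiv_algHom_sub_mem θ hθm (hh i) j)
    have h2 : MvPowerSeries.pderiv k j (w i * g) ∈ m := by
      have h2 := pderiv_mem_pow j 1 _ (Ideal.mul_mem_left _ (w i) hg)
      rwa [pow_one] at h2
    have h3 : MvPowerSeries.pderiv k j (θ (hh i)) = (1 : Matrix (Fin N) (Fin N) PS) i j -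
        MvPowerSeries.pderiv k j (w i * g) := by
      rw [eq_sub_iff_add_eq, ← map_add, ← hw i, Matrix.one_apply]
      by_cases hij : i = j
      · subst hij; rw [if_pos rfl, MvPowerSeries.pderiv_X_self]
      · rw [if_neg hij, MvPowerSeries.pderiv_X_of_ne hij]
    have h4 := Ideal.add_mem _ h1 h2
    rw [h3] at h4
    rw [Matrix.mul_apply]
    have := neg_mem h4
    convert this using 1
    simp [G, L]
    ring
  have hdet : IsUnit L.det := by
    have h1 : (residue PS).mapMatrix (G * L) = 1 := by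
      ext i j
      rw [RingHom.mapMatrix_apply, Matrix.map_apply]
      refine (Ideal.Quotient.eq.2 (hGL i j)).trans ?_
      rw [Matrix.one_apply, Matrix.one_apply]
      split_ifs
      · exact map_one (residue PS)
      · exact map_zero (residue PS)
    rw [map_mul] at h1
    have h2 := Matrix.isUnit_det_of_left_inverse h1
    rw [← RingHom.map_det] at h2
    exact isUnit_of_map_unit (residue PS) _ h2
  let J := Ideal.span (Set.range fun i => MvPowerSeries.pderiv k i g) ⊔ m ^ 2
  obtain ⟨v, hv⟩ : ∃ v, θ g' = v * g := by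
    have h1 : q (θ g') = 0 := by
      rw [← AlgHom.comp_apply q θ, hcomp, AlgHom.comp_apply,
        show q' g' = 0 from Ideal.Quotient.eq_zero_iff_mem.2 (Ideal.mem_span_singleton_self g'), map_zero]
    obtain ⟨v, hv⟩ := Ideal.mem_span_singleton'.1 (Ideal.Quotient.eq_zero_iff_mem.1 h1)
    exact ⟨v, hv.symm⟩
  have hsum : ∀ j, ∑ i, θ (MvPowerSeries.pderiv k i g') * L i j ∈ J := fun j => by
    have h1 := pderiv_algHom_sub_mem θ hθm g' j
    rw [hv, Derivation.leibniz, smul_eq_mul, smul_eq_mul] at h1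
    have h2 : v * MvPowerSeries.pderiv k j g + g * MvPowerSeries.pderiv k j v ∈ J :=
      Ideal.add_mem _ (Ideal.mul_mem_left _ _ (Ideal.mem_sup_left (Ideal.subset_span ⟨j, rfl⟩)))
        (Ideal.mul_mem_right _ _ (Ideal.mem_sup_right hg))
    simpa [L] using Ideal.sub_mem _ h2 (Ideal.mem_sup_right h1 : _ ∈ J)
  have hDk : ∀ i, θ (MvPowerSeries.pderiv k i g') ∈ J := fun i => by
    have h1 : θ (MvPowerSeries.pderiv k i g') =
        ∑ j, (∑ l, θ (MvPowerSeries.pderiv k l g') * L l j) * L⁻¹ j i := by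
      have h2 : Matrix.vecMul (Matrix.vecMul (fun l => θ (MvPowerSeries.pderiv k l g')) L) L⁻¹ i =
          θ (MvPowerSeries.pderiv k i g') := by
        rw [Matrix.vecMul_vecMul, Matrix.mul_nonsing_inv L hdet, Matrix.vecMul_one]
      exact h2.symm
    rw [h1]
    exact Ideal.sum_mem _ fun j _ => Ideal.mul_mem_right _ _ (hsum j)
  have hθJ : ∀ x ∈ m, θ x ∈ J := fun x hx => by
    obtain ⟨s, hs, t, ht, rfl⟩ := Submodule.mem_sup.1 (h hx)
    rw [map_add]
    refine Ideal.add_mem _ ?_ (Ideal.mem_sup_right (hmap 2 t ht))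
    obtain ⟨c, rfl⟩ := (Ideal.mem_span_range_iff_exists_fun).1 hs
    rw [map_sum]
    exact Ideal.sum_mem _ fun i _ => by rw [map_mul]; exact Ideal.mul_mem_left _ _ (hDk i)
  show m ≤ J
  conv_lhs => rw [hm, ← ArtPow.span_X_eq_maximalIdeal]
  rw [Ideal.span_le]
  rintro _ ⟨i, rfl⟩
  rw [SetLike.mem_coe, hw i]
  exact Ideal.add_mem _ (hθJ _ (hhm i)) (Ideal.mem_sup_right (Ideal.mul_mem_left _ _ hg))

/-- Translating to a point. -/
def φ0 (a : Fin N → k) : MvPolynomial (Fin N) k →ₐ[k] PS :=
  MvPolynomial.aeval fun i => MvPowerSeries.C (a i) + MvPowerSeries.X i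

theorem constantCoeff_φ0 (a : Fin N → k) (p : MvPolynomial (Fin N) k) :
    MvPowerSeries.constantCoeff (φ0 a p) = MvPolynomial.aeval a p := by
  induction p using MvPolynomial.induction_on with
  | C c => simp [φ0, MvPowerSeries.algebraMap_apply]
  | add p q hp hq => simp [hp, hq]
  | mul_X p i hp => simp only [map_mul, hp]; simp [φ0]

theorem pderiv_φ0 (a : Fin N → k) (j : Fin N) (p : MvPolynomial (Fin N) k) :
    MvPowerSeries.pderiv k j (φ0 a p) = φ0 a (MvPolynomial.pderiv j p) := by
  rw [φ0, derivation_aeval, Finset.sum_eq_single j]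
  · simp
  · intro i _ hi
    simp [MvPowerSeries.pderiv_X_of_ne hi]
  · simp

theorem φ0_eq (a : Fin N → k) (p : MvPolynomial (Fin N) k) :
    φ0 a p = ((MvPolynomial.aeval fun i => MvPolynomial.C (a i) + MvPolynomial.X i) p : MvPolynomial (Fin N) k) := by
  rw [coe_eq_aeval, MvPolynomial.comp_aeval_apply]
  simp [φ0, MvPowerSeries.algebraMap_apply]

theorem exists_shift (a : Fin N → k) (q : MvPolynomial (Fin N) k) : ∃ p, φ0 a p = (q : PS) := by
  refine ⟨MvPolynomial.aeval (fun i => MvPolynomial.X i - MvPolynomial.C (a i)) q, ?_⟩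
  rw [coe_eq_aeval, MvPolynomial.comp_aeval_apply]
  simp [φ0, MvPowerSeries.algebraMap_apply]

theorem φ0_eval_mem_pow (a : Fin N → k) (p : MvPolynomial (Fin N) k) (n : ℕ)
    (h : φ0 a p ∈ maximalIdeal PS ^ n) :
    p ∈ Ideal.span (Set.range fun i => MvPolynomial.X i - MvPolynomial.C (a i)) ^ n := by
  let τ : MvPolynomial (Fin N) k →ₐ[k] MvPolynomial (Fin N) k :=
    MvPolynomial.aeval fun i => MvPolynomial.C (a i) + MvPolynomial.X i
  let τ' : MvPolynomial (Fin N) k →ₐ[k] MvPolynomial (Fin N) k :=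
    MvPolynomial.aeval fun i => MvPolynomial.X i - MvPolynomial.C (a i)
  have hid : τ'.comp τ = AlgHom.id k _ := MvPolynomial.algHom_ext fun i => by simp [τ, τ']
  have h1 : τ p ∈ MvPolynomial.idealOfVars (Fin N) k ^ n := by
    rw [MvPolynomial.mem_pow_idealOfVars_iff']
    rw [φ0_eq, mem_pow_iff] at h
    intro d hd
    have := h d hd
    rwa [MvPolynomial.coeff_coe] at this
  have h2 := Ideal.mem_map_of_mem τ' h1
  rw [← AlgHom.comp_apply τ' τ, hid, AlgHom.id_apply, Ideal.map_pow] at h2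
  refine Ideal.pow_right_mono ?_ n h2
  rw [MvPolynomial.idealOfVars, Ideal.map_span, Ideal.span_le]
  rintro _ ⟨_, ⟨i, rfl⟩, rfl⟩
  exact Ideal.subset_span ⟨i, by simp [τ']⟩

theorem vanishingIdeal_le_span (a : Fin N → k) (p : MvPolynomial (Fin N) k) (hp : MvPolynomial.aeval a p = 0) :
    p ∈ Ideal.span (Set.range fun i => MvPolynomial.X i - MvPolynomial.C (a i)) := by
  have h := φ0_eval_mem_pow a p 1 (by rw [pow_one, mem_max_iff, constantCoeff_φ0]; exact hp)
  rwa [pow_one] at h

end Groth.Agent.QuadSingJac
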