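import Groth.Agent.QuadSingJac.Basic
import Mathlib.RingTheory.Nullstellensatz

/-!
# The completed local ring of a hypersurface at a rational point
-/

set_option autoImplicit false
set_option linter.style.haveILetI false
set_option maxHeartbeats 1200000
universe u

open IsLocalRing MvPolynomial

noncomputable section

namespace Groth.Agent.QuadSingJac

variable {k : Type u} [Field k] {N : ℕ}

theorem completion_model (f : MvPolynomial (Fin N) k) (a : Fin N → k)
    (hg : φ0 a f ∈ maximalIdeal (MvPowerSeries (Fin N) k) ^ 2)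
    (P : Ideal (MvPolynomial (Fin N) k ⧸ Ideal.span {f})) [P.IsPrime]
    (hP : ∀ p, Ideal.Quotient.mk (Ideal.span {f}) p ∈ P ↔ aeval a p = 0)
    (C : Type u) [CommRing C] [IsLocalRing C] [Algebra k C] [Algebra (MvPolynomial (Fin N) k ⧸ Ideal.span {f}) C]
    [IsScalarTower k (MvPolynomial (Fin N) k ⧸ Ideal.span {f}) C] [IsLocalization.AtPrime C P] :
    ((P.primeCompl : Set (MvPolynomial (Fin N) k ⧸ Ideal.span {f})).Nonempty) ∧
    Nonempty (AdicCompletion (maximalIdeal C) C ≃ₐ[k]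
        (MvPowerSeries (Fin N) k ⧸ Ideal.span {φ0 a f})) ∧
    (Ideal.map (algebraMap (MvPolynomial (Fin N) k ⧸ Ideal.span {f}) C)
          (Ideal.span (Set.range fun j => Ideal.Quotient.mk (Ideal.span {f}) (pderiv j f))) =
        maximalIdeal C ↔ JacFull (φ0 a f)) := by
  classical
  refine ⟨⟨1, fun h => ‹P.IsPrime›.ne_top ((Ideal.eq_top_iff_one _).2 h)⟩, ?_⟩
  let PS := MvPowerSeries (Fin N) k
  set g : PS := φ0 a f with hgdef
  let B := MvPolynomial (Fin N) k ⧸ Ideal.span {f}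
  let Q' := PS ⧸ Ideal.span {g}
  have hgm : Ideal.span {g} ≤ maximalIdeal PS :=
    (Ideal.span_singleton_le_iff_mem _).2 (Ideal.pow_le_self two_ne_zero hg)
  haveI : Nontrivial Q' :=
    Ideal.Quotient.nontrivial_iff.2 (ne_top_of_le_ne_top (maximalIdeal.isMaximal PS).ne_top hgm)
  haveI : IsLocalRing Q' := IsLocalRing.of_surjective' (Ideal.Quotient.mk _) Ideal.Quotient.mk_surjective
  haveI : IsAdicComplete (maximalIdeal PS) PS := ArtKit.isAdicComplete_mvPowerSeries
  haveI : IsAdicComplete (maximalIdeal Q') Q' :=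
    EGA41FS.isAdicComplete_quotient (Ideal.span {g})
  have hmQ : (maximalIdeal PS).map (Ideal.Quotient.mkₐ k (Ideal.span {g})) = maximalIdeal Q' := by
    haveI : IsLocalHom (Ideal.Quotient.mk (Ideal.span {g})) := IsLocalHom.of_surjective _ Ideal.Quotient.mk_surjective
    exact SyntLib.map_maximalIdeal_of_surjective (Ideal.Quotient.mk (Ideal.span {g})) Ideal.Quotient.mk_surjective
  have hmQn : ∀ n, ∀ z, z ∈ maximalIdeal PS ^ n → Ideal.Quotient.mkₐ k (Ideal.span {g}) z ∈ maximalIdeal Q' ^ n :=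
    fun n z hz => by
      rw [← hmQ, ← Ideal.map_pow]
      exact Ideal.mem_map_of_mem _ hz
  let χ : B →ₐ[k] Q' := Ideal.Quotient.liftₐ (Ideal.span {f}) ((Ideal.Quotient.mkₐ k (Ideal.span {g})).comp (φ0 a))
    (fun x hx => by
      obtain ⟨c, rfl⟩ := Ideal.mem_span_singleton'.1 hx
      rw [AlgHom.comp_apply, map_mul, map_mul, show Ideal.Quotient.mkₐ k (Ideal.span {g}) (φ0 a f) = 0 from
        Ideal.Quotient.eq_zero_iff_mem.2 (Ideal.mem_span_singleton_self g), mul_zero])
  have hu : ∀ s : P.primeCompl, IsUnit (χ s) := fun ⟨s, hs⟩ => by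
    obtain ⟨p, rfl⟩ := Ideal.Quotient.mk_surjective s
    refine IsUnit.map (Ideal.Quotient.mkₐ k (Ideal.span {g})) ?_
    rw [MvPowerSeries.isUnit_iff_constantCoeff]
    show IsUnit (MvPowerSeries.constantCoeff (φ0 a p))
    rw [constantCoeff_φ0, isUnit_iff_ne_zero]
    exact fun h => hs ((hP p).2 h)
  let Φ : C →ₐ[k] Q' := IsLocalization.liftAlgHom (M := P.primeCompl) (f := χ) hu
  have hΦ : ∀ b : B, Φ (algebraMap B C b) = χ b := fun b => IsLocalization.lift_eq hu b
  have hΦp : ∀ p, Φ (algebraMap B C (Ideal.Quotient.mk _ p)) = Ideal.Quotient.mkₐ k (Ideal.span {g}) (φ0 a p) :=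
    fun p => hΦ _
  have hmap : (maximalIdeal C).map Φ ≤ maximalIdeal Q' := by
    rw [← IsLocalization.AtPrime.map_eq_maximalIdeal P C, Ideal.map_le_iff_le_comap, Ideal.map_le_iff_le_comap]
    intro b hb
    obtain ⟨p, rfl⟩ := Ideal.Quotient.mk_surjective b
    rw [Ideal.mem_comap, Ideal.mem_comap, hΦp]
    have h1 := hmQn 1 (φ0 a p) (by rw [pow_one, mem_max_iff, constantCoeff_φ0]; exact (hP p).1 hb)
    rwa [pow_one] at h1
  have hΦn : ∀ n, maximalIdeal C ^ n ≤ (maximalIdeal Q' ^ n).comap Φ := fun n => by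
    rw [← Ideal.map_le_iff_le_comap, Ideal.map_pow]
    exact Ideal.pow_right_mono hmap n
  have hbij : ∀ n, Function.Bijective (Ideal.quotientMapₐ (maximalIdeal Q' ^ n) Φ (hΦn n)) := fun n => by
    refine ⟨(injective_iff_map_eq_zero _).2 fun y hy => ?_, fun y => ?_⟩
    · obtain ⟨c, rfl⟩ := Ideal.Quotient.mk_surjective y
      rw [Ideal.Quotient.eq_zero_iff_mem]
      have hc : Φ c ∈ maximalIdeal Q' ^ n := Ideal.Quotient.eq_zero_iff_mem.1 hy
      obtain ⟨b, s, rfl⟩ := IsLocalization.exists_mk'_eq P.primeCompl c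
      obtain ⟨p, rfl⟩ := Ideal.Quotient.mk_surjective b
      rw [IsLocalization.mk'_mem_iff]
      have h1 : Φ (algebraMap B C (Ideal.Quotient.mk _ p)) ∈ maximalIdeal Q' ^ n := by
        rw [← IsLocalization.mk'_spec C (Ideal.Quotient.mk (Ideal.span {f}) p) s, map_mul]
        exact Ideal.mul_mem_right _ _ hc
      rw [hΦp, ← hmQ, ← Ideal.map_pow] at h1
      obtain ⟨t, ht, hte⟩ := (Ideal.mem_map_iff_of_surjective _ (Ideal.Quotient.mkₐ_surjective k _)).1 h1
      obtain ⟨h, hh⟩ := Ideal.mem_span_singleton'.1 (Ideal.Quotient.eq.1 hte.symm)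
      obtain ⟨h', hh'⟩ := exists_shift a (MvPowerSeries.truncTotal n h)
      have h2 : φ0 a (p - h' * f) ∈ maximalIdeal PS ^ n := by
        rw [map_sub, map_mul, hh', show φ0 a p = t + h * g by rw [hh]; ring, ← hgdef,
          show t + h * g - (MvPowerSeries.truncTotal n h : MvPolynomial (Fin N) k) * g =
            t + (h - (MvPowerSeries.truncTotal n h : MvPolynomial (Fin N) k)) * g by ring]
        exact Ideal.add_mem _ ht (Ideal.mul_mem_right _ _ (sub_trunc_mem h n))
      have h3 := φ0_eval_mem_pow a _ n h2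
      have h4 : Ideal.Quotient.mk (Ideal.span {f}) p ∈ P ^ n := by
        have h5 := Ideal.mem_map_of_mem (Ideal.Quotient.mk (Ideal.span {f})) h3
        rw [map_sub, map_mul, Ideal.Quotient.eq_zero_iff_mem.2 (Ideal.mem_span_singleton_self f), mul_zero,
          sub_zero, Ideal.map_pow] at h5
        refine Ideal.pow_right_mono ?_ n h5
        rw [Ideal.map_span, Ideal.span_le]
        rintro _ ⟨_, ⟨i, rfl⟩, rfl⟩
        exact (hP _).2 (by simp)
      rw [← IsLocalization.AtPrime.map_eq_maximalIdeal P C, ← Ideal.map_pow]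
      exact Ideal.mem_map_of_mem _ h4
    · obtain ⟨z, rfl⟩ := Ideal.Quotient.mk_surjective y
      obtain ⟨z, rfl⟩ := Ideal.Quotient.mkₐ_surjective k (Ideal.span {g}) z
      obtain ⟨p, hp⟩ := exists_shift a (MvPowerSeries.truncTotal n z)
      refine ⟨Ideal.Quotient.mk _ (algebraMap B C (Ideal.Quotient.mk _ p)), Ideal.Quotient.eq.2 ?_⟩
      show Φ (algebraMap B C (Ideal.Quotient.mk _ p)) - Ideal.Quotient.mkₐ k (Ideal.span {g}) z ∈ maximalIdeal Q' ^ n
      rw [hΦp, ← map_sub, hp, ← neg_sub, map_neg]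
      exact neg_mem (hmQn n _ (sub_trunc_mem z n))
  obtain ⟨E, -⟩ := SectRegPS.exists_algEquiv_of_truncations _ _ Φ hΦn hbij
  refine ⟨⟨E.trans ((AdicCompletion.ofAlgEquiv (maximalIdeal Q')).symm.restrictScalars k)⟩, ?_⟩
  let D : Fin N → C := fun j => algebraMap B C (Ideal.Quotient.mk _ (pderiv j f))
  have hD : ∀ j, Φ (D j) = Ideal.Quotient.mkₐ k (Ideal.span {g}) (MvPowerSeries.pderiv k j g) := fun j =>
    (hΦp _).trans (congrArg _ (pderiv_φ0 a j f).symm)
  have hDm : ∀ j, D j ∈ maximalIdeal C := fun j => by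
    rw [← IsLocalization.AtPrime.map_eq_maximalIdeal P C]
    refine Ideal.mem_map_of_mem _ ((hP _).2 ?_)
    rw [← constantCoeff_φ0, ← mem_max_iff, ← pderiv_φ0, ← pow_one (maximalIdeal _)]
    exact pderiv_mem_pow j 1 _ hg
  have hspan : Ideal.map (algebraMap B C)
      (Ideal.span (Set.range fun j => Ideal.Quotient.mk (Ideal.span {f}) (pderiv j f))) = Ideal.span (Set.range D) := by
    rw [Ideal.map_span, ← Set.range_comp]
    rfl
  rw [hspan]
  constructor
  · intro h x hx
    obtain ⟨c, hc⟩ := (hbij 2).2 (Ideal.Quotient.mk _ (Ideal.Quotient.mkₐ k (Ideal.span {g}) x))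
    obtain ⟨c, rfl⟩ := Ideal.Quotient.mk_surjective c
    have h1 : Φ c - Ideal.Quotient.mkₐ k (Ideal.span {g}) x ∈ maximalIdeal Q' ^ 2 := Ideal.Quotient.eq.1 hc
    have hcm : c ∈ maximalIdeal C := by
      intro hu
      have h2 : Ideal.Quotient.mkₐ k (Ideal.span {g}) x ∈ maximalIdeal Q' := by
        rw [← hmQ]; exact Ideal.mem_map_of_mem _ hx
      have h3 : Φ c ∈ maximalIdeal Q' := by
        have := Ideal.add_mem _ (Ideal.pow_le_self two_ne_zero h1) h2
        rwa [sub_add_cancel] at this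
      exact h3 (hu.map Φ)
    rw [← h] at hcm
    have h4 : Φ c ∈ (Ideal.span (Set.range D)).map Φ := Ideal.mem_map_of_mem _ hcm
    rw [Ideal.map_span, ← Set.range_comp, show (Φ ∘ D) = (Ideal.Quotient.mkₐ k (Ideal.span {g})) ∘
      fun j => MvPowerSeries.pderiv k j g from funext hD, Set.range_comp, ← Ideal.map_span] at h4
    rw [← hmQ, ← Ideal.map_pow] at h1
    obtain ⟨s, hs, hse⟩ := (Ideal.mem_map_iff_of_surjective _ (Ideal.Quotient.mkₐ_surjective k _)).1 h4
    obtain ⟨t, ht, hte⟩ := (Ideal.mem_map_iff_of_surjective _ (Ideal.Quotient.mkₐ_surjective k _)).1 h1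
    have h5 : x - (s - t) ∈ Ideal.span {g} := Ideal.Quotient.eq_zero_iff_mem.1 (show
      Ideal.Quotient.mkₐ k (Ideal.span {g}) (x - (s - t)) = 0 by rw [map_sub, map_sub, hse, hte]; ring)
    rw [← sub_add_cancel x (s - t)]
    exact Ideal.add_mem _ (Ideal.mem_sup_right ((Ideal.span_singleton_le_iff_mem _).2 hg h5))
      (Ideal.sub_mem _ (Ideal.mem_sup_left hs) (Ideal.mem_sup_right ht))
  · intro h
    haveI : IsNoetherianRing C := IsLocalization.isNoetherianRing P.primeCompl _ inferInstance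
    refine le_antisymm (Ideal.span_le.2 (by rintro _ ⟨j, rfl⟩; exact hDm j)) ?_
    refine Submodule.le_of_le_smul_of_le_jacobson_bot (IsNoetherian.noetherian _)
      (maximalIdeal_le_jacobson _) fun c hc => ?_
    rw [smul_eq_mul, ← pow_two]
    have h2 : Φ c ∈ maximalIdeal Q' := hmap (Ideal.mem_map_of_mem _ hc)
    rw [← hmQ] at h2
    obtain ⟨x, hx, hxe⟩ := (Ideal.mem_map_iff_of_surjective _ (Ideal.Quotient.mkₐ_surjective k _)).1 h2
    obtain ⟨s, hs, t, ht, hst⟩ := Submodule.mem_sup.1 (h hx)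
    obtain ⟨w, hw⟩ := (Ideal.mem_span_range_iff_exists_fun).1 hs
    have hwc : ∀ i, ∃ e : C, Φ e - Ideal.Quotient.mkₐ k (Ideal.span {g}) (w i) ∈ maximalIdeal Q' ^ 2 := fun i => by
      obtain ⟨e, he⟩ := (hbij 2).2 (Ideal.Quotient.mk _ (Ideal.Quotient.mkₐ k (Ideal.span {g}) (w i)))
      obtain ⟨e, rfl⟩ := Ideal.Quotient.mk_surjective e
      exact ⟨e, Ideal.Quotient.eq.1 he⟩
    choose e he using hwc
    have h3 : Φ (c - ∑ i, e i * D i) ∈ maximalIdeal Q' ^ 2 := by
      have h4 : Φ (c - ∑ i, e i * D i) = Ideal.Quotient.mkₐ k (Ideal.span {g}) t -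
          ∑ i, (Φ (e i) - Ideal.Quotient.mkₐ k (Ideal.span {g}) (w i)) * Φ (D i) := by
        rw [map_sub, map_sum, ← hxe, ← hst, ← hw, map_add, map_sum]
        simp only [map_mul, hD, sub_mul, Finset.sum_sub_distrib]
        ring
      rw [h4]
      exact Ideal.sub_mem _ (hmQn 2 t ht) (Ideal.sum_mem _ fun i _ => Ideal.mul_mem_right _ _ (he i))
    have h5 : c - ∑ i, e i * D i ∈ maximalIdeal C ^ 2 := by
      refine Ideal.Quotient.eq_zero_iff_mem.1 ((injective_iff_map_eq_zero _).1 (hbij 2).1 _ ?_)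
      exact Ideal.Quotient.eq_zero_iff_mem.2 h3
    rw [← sub_add_cancel c (∑ i, e i * D i)]
    exact Ideal.add_mem _ (Submodule.mem_sup_right h5) (Submodule.mem_sup_left
      (Ideal.sum_mem _ fun i _ => Ideal.mul_mem_left _ _ (Ideal.subset_span ⟨i, rfl⟩)))

end Groth.Agent.QuadSingJac
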